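import Mathlib.RingTheory.Smooth.Kaehler
import Mathlib.RingTheory.Smooth.Basic
import Mathlib.RingTheory.LocalRing.ResidueField.Basic
import Mathlib.RingTheory.Ideal.Cotangent

set_option autoImplicit false

/-! For a local algebra `A` over `P₀` whose residue field `K` is formally smooth over `P₀`:
`0 → m/m² → K ⊗ Ω[A⁄P₀] → Ω[K⁄P₀] → 0` is exact. -/

namespace Groth.Agent.Lib.Helper97.ArtinCot

open IsLocalRing TensorProduct KaehlerDifferential

universe u v

variable (P₀ : Type v) [CommRing P₀] (A : Type u) [CommRing A] [IsLocalRing A] [Algebra P₀ A]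

lemma ker_algebraMap_residueField :
    RingHom.ker (algebraMap A (ResidueField A)) = maximalIdeal A := by
  rw [ResidueField.algebraMap_eq]; exact ker_residue

lemma algebraMap_residueField_surjective :
    Function.Surjective (algebraMap A (ResidueField A)) := by
  rw [ResidueField.algebraMap_eq]; exact residue_surjective

theorem kerCotangentToTensor_injective [Algebra.FormallySmooth P₀ (ResidueField A)] :
    Function.Injective (kerCotangentToTensor P₀ A (ResidueField A)) := by
  have hsurj := algebraMap_residueField_surjective A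
  let f := IsScalarTower.toAlgHom P₀ A (ResidueField A)
  have hfs : Function.Surjective f.kerSquareLift := by
    intro x
    obtain ⟨a, rfl⟩ := hsurj x
    exact ⟨Ideal.Quotient.mk _ a, rfl⟩
  have hnil : IsNilpotent (RingHom.ker
      (f.kerSquareLift : A ⧸ RingHom.ker f.toRingHom ^ 2 →+* ResidueField A)) := by
    refine ⟨2, ?_⟩
    have := AlgHom.ker_kerSquareLift f
    change RingHom.ker f.kerSquareLift.toRingHom ^ 2 = ⊥
    rw [this, Ideal.cotangentIdeal_square]
  let g := Algebra.FormallySmooth.liftOfSurjective (AlgHom.id P₀ (ResidueField A))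
    f.kerSquareLift hfs hnil
  have hg : f.kerSquareLift.comp g = AlgHom.id P₀ (ResidueField A) :=
    Algebra.FormallySmooth.comp_liftOfSurjective _ _ hfs hnil
  obtain ⟨l, hl⟩ := (retractionKerCotangentToTensorEquivSection (R := P₀) hsurj).symm ⟨g, hg⟩
  exact Function.LeftInverse.injective (g := l) (fun x => LinearMap.congr_fun hl x)

/-- `m/m² → K ⊗ Ω[A⁄P₀]`. -/
noncomputable def cotToTensor : CotangentSpace A →ₗ[A] ResidueField A ⊗[A] Ω[A⁄P₀] :=
  (kerCotangentToTensor P₀ A (ResidueField A)) ∘ₗ
    (Ideal.Cotangent.equivOfEq _ _ (ker_algebraMap_residueField A).symm).toLinearMap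

lemma cotToTensor_toCotangent (x : maximalIdeal A) :
    cotToTensor P₀ A ((maximalIdeal A).toCotangent x) = 1 ⊗ₜ D P₀ A x.1 := rfl

lemma cotToTensor_injective [Algebra.FormallySmooth P₀ (ResidueField A)] :
    Function.Injective (cotToTensor P₀ A) :=
  (kerCotangentToTensor_injective P₀ A).comp (LinearEquiv.injective _)

lemma range_cotToTensor :
    LinearMap.range (cotToTensor P₀ A) =
      (LinearMap.ker (mapBaseChange P₀ A (ResidueField A))).restrictScalars A := by
  rw [cotToTensor, LinearMap.range_comp_of_range_eq_top _ (LinearEquiv.range _),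
    range_kerCotangentToTensor P₀ A (ResidueField A) (algebraMap_residueField_surjective A)]

/-- The cotangent space is the kernel of `K ⊗ Ω[A⁄P₀] → Ω[K⁄P₀]`. -/
noncomputable def cotEquivKer [Algebra.FormallySmooth P₀ (ResidueField A)] :
    CotangentSpace A ≃ₗ[ResidueField A] LinearMap.ker (mapBaseChange P₀ A (ResidueField A)) :=
  LinearEquiv.extendScalarsOfSurjective (algebraMap_residueField_surjective A)
    ((LinearEquiv.ofInjective (cotToTensor P₀ A) (cotToTensor_injective P₀ A)).trans
      ((LinearEquiv.ofEq _ _ (range_cotToTensor P₀ A)).trans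
        ((Submodule.restrictScalarsEquiv A (ResidueField A) _
          (LinearMap.ker (mapBaseChange P₀ A (ResidueField A)))).restrictScalars A)))

lemma cotEquivKer_toCotangent [Algebra.FormallySmooth P₀ (ResidueField A)] (x : maximalIdeal A) :
    ((cotEquivKer P₀ A ((maximalIdeal A).toCotangent x) : _) :
      ResidueField A ⊗[A] Ω[A⁄P₀]) = 1 ⊗ₜ D P₀ A x.1 := rfl

theorem finrank_ker_mapBaseChange [Algebra.FormallySmooth P₀ (ResidueField A)] :
    Module.finrank (ResidueField A) (LinearMap.ker (mapBaseChange P₀ A (ResidueField A))) =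
      Module.finrank (ResidueField A) (CotangentSpace A) :=
  (cotEquivKer P₀ A).finrank_eq.symm

theorem mapBaseChange_residueField_surjective :
    Function.Surjective (mapBaseChange P₀ A (ResidueField A)) :=
  mapBaseChange_surjective P₀ A (ResidueField A) (algebraMap_residueField_surjective A)

end Groth.Agent.Lib.Helper97.ArtinCot
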