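import Groth.Agent.Lib.Helper97.ArtinCot.PthRootExt
import Mathlib.RingTheory.Kaehler.JacobiZariski
import Mathlib.RingTheory.Extension.Presentation.Basic

set_option autoImplicit false

/-! Differentials of `B = A[T]/(T_i^p - f_i)` over `A` and the Jacobi–Zariski sequence. -/

namespace Groth.Agent.Lib.Helper97.ArtinCot

open MvPolynomial TensorProduct KaehlerDifferential Algebra

universe u v

variable {A : Type u} [CommRing A] (p : ℕ) [Fact p.Prime] [CharP A p] {r : ℕ} (f : Fin r → A)

/-- The naive generators of `B` over `A`. -/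
noncomputable def Q : Generators A (B p f) (Fin r) := Generators.naive (I := J p f)

lemma Q_ker : (Q p f).ker = J p f := Generators.ker_naive _ _

lemma D_gen (i : Fin r) :
    D A (MvPolynomial (Fin r) A) (X i ^ p - C (f i)) = 0 := by
  rw [map_sub, Derivation.leibniz_pow]
  have : D A (MvPolynomial (Fin r) A) (C (f i)) = 0 := Derivation.map_algebraMap _ _
  rw [this, sub_zero]
  have hp : ((p : ℕ) : MvPolynomial (Fin r) A) = 0 := CharP.cast_eq_zero _ p
  rw [← Nat.cast_smul_eq_nsmul (MvPolynomial (Fin r) A), hp, zero_smul]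

lemma one_tmul_D_eq_zero (x : MvPolynomial (Fin r) A) (hx : x ∈ J p f) :
    (1 : B p f) ⊗ₜ[MvPolynomial (Fin r) A] D A (MvPolynomial (Fin r) A) x = 0 := by
  refine Submodule.span_induction ?_ ?_ ?_ ?_ hx
  · rintro _ ⟨i, rfl⟩
    rw [D_gen, tmul_zero]
  · simp
  · intro x y _ _ hx hy
    rw [map_add, tmul_add, hx, hy, add_zero]
  · intro a x hxJ hx
    rw [smul_eq_mul, Derivation.leibniz, tmul_add, tmul_smul, hx, smul_zero, zero_add,
      ← smul_tmul]
    have : (x • (1 : B p f)) = 0 :=
      (algebraMap_eq_smul_one (A := B p f) x).symm.trans (Ideal.Quotient.eq_zero_iff_mem.mpr hxJ)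
    rw [this, zero_tmul]

lemma cotangentComplex_eq_zero : (Q p f).toExtension.cotangentComplex = 0 := by
  ext x
  obtain ⟨x, rfl⟩ := Extension.Cotangent.mk_surjective x
  rw [Extension.cotangentComplex_mk]
  have hx : (x.1 : MvPolynomial (Fin r) A) ∈ J p f :=
    (Q_ker p f).le x.2
  exact one_tmul_D_eq_zero p f x.1 hx

/-- `Ω[B⁄A]` is the free module on the `dT_i`. -/
noncomputable def kaehlerEquiv :
    (Q p f).toExtension.CotangentSpace ≃ₗ[B p f] Ω[B p f⁄A] :=
  LinearEquiv.ofBijective (Q p f).toExtension.toKaehler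
    ⟨by
      rw [← LinearMap.ker_eq_bot,
        (Q p f).toExtension.exact_cotangentComplex_toKaehler.linearMap_ker_eq,
        cotangentComplex_eq_zero, LinearMap.range_zero],
     (Q p f).toExtension.toKaehler_surjective⟩

instance : Module.Free (B p f) Ω[B p f⁄A] :=
  Module.Free.of_equiv (kaehlerEquiv p f)

instance : Module.Finite (B p f) Ω[B p f⁄A] :=
  haveI : Module.Finite (B p f) (Q p f).toExtension.CotangentSpace :=
    Module.Finite.of_basis (Q p f).cotangentSpaceBasis
  Module.Finite.equiv (kaehlerEquiv p f)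

lemma finrank_kaehler [Nontrivial (B p f)] : Module.finrank (B p f) Ω[B p f⁄A] = r := by
  rw [← (kaehlerEquiv p f).finrank_eq, Module.finrank_eq_card_basis (Q p f).cotangentSpaceBasis,
    Fintype.card_fin]

section Delta

variable (P₀ : Type v) [CommRing P₀] [Algebra P₀ A]

attribute [local instance] SMulCommClass.of_commMonoid

lemma δAux_gen (i : Fin r) :
    Generators.H1Cotangent.δAux P₀ (Q p f) (X i ^ p - C (f i)) =
      - ((1 : B p f) ⊗ₜ[A] D P₀ A (f i)) := by
  rw [map_sub, Generators.H1Cotangent.δAux_C, X_pow_eq_monomial,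
    Generators.H1Cotangent.δAux_monomial, Derivation.map_one_eq_zero, tmul_zero, zero_sub]

lemma δAux_mem_span (x : MvPolynomial (Fin r) A) (hx : x ∈ J p f) :
    Generators.H1Cotangent.δAux P₀ (Q p f) x ∈
      Submodule.span (B p f) (Set.range fun i => (1 : B p f) ⊗ₜ[A] D P₀ A (f i)) := by
  refine Submodule.span_induction ?_ ?_ ?_ ?_ hx
  · rintro _ ⟨i, rfl⟩
    rw [δAux_gen]
    exact Submodule.neg_mem _ (Submodule.subset_span ⟨i, rfl⟩)
  · rw [map_zero]; exact Submodule.zero_mem _
  · intro x y _ _ hx hy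
    rw [map_add]; exact Submodule.add_mem _ hx hy
  · intro a x hxJ hx
    rw [smul_eq_mul, Generators.H1Cotangent.δAux_mul]
    have h0 : algebraMap (MvPolynomial (Fin r) A) (B p f) x = 0 :=
      Ideal.Quotient.eq_zero_iff_mem.mpr hxJ
    refine Submodule.add_mem _ ?_ ?_
    · rw [← @IsScalarTower.algebraMap_smul (Q p f).Ring (B p f)]
      exact Submodule.smul_mem _ _ hx
    · rw [← @IsScalarTower.algebraMap_smul (Q p f).Ring (B p f)]
      have : (algebraMap (Q p f).Ring (B p f)) x = 0 := h0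
      rw [this]
      have h2 : (0 : B p f) • Generators.H1Cotangent.δAux P₀ (Q p f) a = 0 :=
        zero_smul (B p f) (Generators.H1Cotangent.δAux P₀ (Q p f) a)
      exact h2.symm ▸ Submodule.zero_mem _

theorem range_δ : LinearMap.range (Algebra.H1Cotangent.δ P₀ A (B p f)) =
    Submodule.span (B p f) (Set.range fun i => (1 : B p f) ⊗ₜ[A] D P₀ A (f i)) := by
  have h1 : Algebra.H1Cotangent.δ P₀ A (B p f) =
      Generators.H1Cotangent.δ (Q p f) (Generators.self P₀ A) ∘ₗ
        (Generators.H1Cotangent.equiv _ _).toLinearMap :=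
    (Generators.H1Cotangent.δ_comp_equiv ..).symm
  rw [h1, LinearMap.range_comp_of_range_eq_top _ (LinearEquiv.range _)]
  apply le_antisymm
  · rintro _ ⟨⟨x, hx⟩, rfl⟩
    obtain ⟨y, rfl⟩ := Extension.Cotangent.mk_surjective x
    rw [Generators.H1Cotangent.δ_eq_δAux]
    exact δAux_mem_span p f P₀ y.1 ((Q_ker p f).le y.2)
  · rw [Submodule.span_le]
    rintro _ ⟨i, rfl⟩
    have hg : X i ^ p - C (f i) ∈ (Q p f).ker := (Q_ker p f).ge (gen_mem_J p f i)
    have hmem : Extension.Cotangent.mk ⟨X i ^ p - C (f i), hg⟩ ∈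
        LinearMap.ker (Q p f).toExtension.cotangentComplex := by
      rw [cotangentComplex_eq_zero]; simp
    refine ⟨-⟨_, hmem⟩, ?_⟩
    rw [map_neg, Generators.H1Cotangent.δ_eq_δAux]
    exact (congrArg Neg.neg (δAux_gen p f P₀ i)).trans (neg_neg _)

end Delta

end Groth.Agent.Lib.Helper97.ArtinCot
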