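import Mathlib.RingTheory.Kaehler.Basic
import Mathlib.RingTheory.Flat.Basic
import Mathlib.LinearAlgebra.Dimension.Constructions
import Mathlib.LinearAlgebra.Dimension.OrzechProperty
import Mathlib.RingTheory.Flat.Equalizer

set_option autoImplicit false

/-! Miscellaneous lemmas for `ArtinCot`. -/

namespace Groth.Agent.Lib.Helper97.ArtinCot

open TensorProduct KaehlerDifferential

section Fields

variable {K K' : Type*} [Field K] [Field K'] [Algebra K K'] {V : Type*} [AddCommGroup V]
  [Module K V]

/-- Base change of a subspace along a field extension has the same dimension. -/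
theorem finrank_baseChange_submodule (p : Submodule K V) :
    Module.finrank K' (p.baseChange K') = Module.finrank K p := by
  have hinj : Function.Injective (p.toBaseChange K') := by
    intro x y hxy
    have h1 : Function.Injective (p.subtype.baseChange K') := by
      rw [LinearMap.baseChange_eq_ltensor]
      exact Module.Flat.lTensor_preserves_injective_linearMap _ p.subtype_injective
    apply h1
    exact congrArg Subtype.val hxy
  rw [← (LinearEquiv.ofBijective (p.toBaseChange K')
    ⟨hinj, p.toBaseChange_surjective K'⟩).finrank_eq, Module.finrank_baseChange]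

theorem linearIndependent_iff_finrank_baseChange_span {r : ℕ} (v : Fin r → V) :
    LinearIndependent K v ↔
      Module.finrank K' ((Submodule.span K (Set.range v)).baseChange K') = r := by
  rw [finrank_baseChange_submodule, linearIndependent_iff_card_eq_finrank_span, Fintype.card_fin,
    Set.finrank, eq_comm]

end Fields

section KaehlerMap

variable (R A B C : Type*) [CommRing R] [CommRing A] [CommRing B] [CommRing C]
  [Algebra R A] [Algebra R B] [Algebra R C] [Algebra A B] [Algebra B C] [Algebra A C]
  [IsScalarTower R A B] [IsScalarTower R B C] [IsScalarTower R A C] [IsScalarTower A B C]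

theorem map_map (ω : Ω[A⁄R]) :
    KaehlerDifferential.map R R B C (KaehlerDifferential.map R R A B ω) =
      KaehlerDifferential.map R R A C ω := by
  have : ((KaehlerDifferential.map R R B C).restrictScalars A).comp
      (KaehlerDifferential.map R R A B) = KaehlerDifferential.map R R A C := by
    apply Derivation.liftKaehlerDifferential_unique
    ext a
    simp only [Derivation.coe_comp, LinearMap.coe_comp, Function.comp_apply,
      LinearMap.coe_restrictScalars, KaehlerDifferential.map_D, Derivation.coeFn_coe,
      ← IsScalarTower.algebraMap_apply]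
  exact LinearMap.congr_fun this ω

end KaehlerMap

section IntBase

variable (P₀ A : Type*) [CommRing P₀] [CommRing A] [Algebra P₀ A]
  (h : ∀ c : P₀, D ℤ A (algebraMap P₀ A c) = 0)

/-- `Ω[A⁄ℤ] ≃ Ω[A⁄P₀]` when `d` kills the image of `P₀`. -/
noncomputable def kaehlerIntEquiv : Ω[A⁄ℤ] ≃ₗ[A] Ω[A⁄P₀] :=
  LinearEquiv.ofLinear (KaehlerDifferential.map ℤ P₀ A A)
    ((Derivation.mk'
      { toFun := D ℤ A
        map_add' := map_add _
        map_smul' := fun c x => by
          rw [Algebra.smul_def, (D ℤ A).leibniz, h, smul_zero, add_zero, algebraMap_smul]
          rfl }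
      (fun a b => (D ℤ A).leibniz a b) : Derivation P₀ A Ω[A⁄ℤ]).liftKaehlerDifferential)
    (by
      apply Derivation.liftKaehlerDifferential_unique
      ext a
      simp [Derivation.mk'])
    (by
      apply Derivation.liftKaehlerDifferential_unique
      ext a
      simp [Derivation.mk'])

@[simp] lemma kaehlerIntEquiv_D (a : A) : kaehlerIntEquiv P₀ A h (D ℤ A a) = D P₀ A a := by
  simp [kaehlerIntEquiv]

end IntBase

end Groth.Agent.Lib.Helper97.ArtinCot
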