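import Mathlib.LinearAlgebra.TensorProduct.RightExactness
import Mathlib.LinearAlgebra.TensorProduct.Tower
import Mathlib.Algebra.Module.Projective

set_option autoImplicit false

/-! Tensoring an exact sequence `N → M → W → 0` with projective `W`. -/

namespace Groth.Agent.Lib.Helper97.ArtinCot

open TensorProduct

variable {R : Type*} [CommRing R] {N M W : Type*} [AddCommGroup N] [Module R N]
  [AddCommGroup M] [Module R M] [AddCommGroup W] [Module R W]
  (S : Type*) [CommRing S] [Algebra R S]

theorem ker_baseChange_of_projective {α : N →ₗ[R] M} {β : M →ₗ[R] W}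
    (hex : Function.Exact α β) (hβ : Function.Surjective β) [Module.Projective R W] :
    LinearMap.ker (α.baseChange S) = (LinearMap.ker α).baseChange S := by
  obtain ⟨σ, hσ⟩ := Module.projective_lifting_property β LinearMap.id hβ
  -- `α` factors through `ker β`
  let α' : N →ₗ[R] LinearMap.ker β := α.codRestrict (LinearMap.ker β) (fun n => hex.apply_apply_eq_zero n)
  have hα' : (LinearMap.ker β).subtype ∘ₗ α' = α := rfl
  have hα'surj : Function.Surjective α' := by
    rintro ⟨m, hm⟩
    obtain ⟨n, rfl⟩ := (hex m).mp hm
    exact ⟨n, rfl⟩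
  have hex' : Function.Exact (LinearMap.ker α).subtype α' := by
    intro n
    constructor
    · intro h
      exact ⟨⟨n, by
        have := congrArg Subtype.val h
        simpa [α'] using this⟩, rfl⟩
    · rintro ⟨⟨n, hn⟩, rfl⟩
      exact Subtype.ext hn
  -- retraction of `ker β ↪ M`
  let ρ : M →ₗ[R] LinearMap.ker β :=
    (LinearMap.id - σ ∘ₗ β).codRestrict (LinearMap.ker β) (fun m => by
      have := LinearMap.congr_fun hσ (β m)
      simp only [LinearMap.coe_comp, Function.comp_apply, LinearMap.id_coe, id_eq] at this
      simp [this])
  have hρ : ρ ∘ₗ (LinearMap.ker β).subtype = LinearMap.id := by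
    ext ⟨m, hm⟩
    have hm' : β m = 0 := hm
    simp [ρ, hm']
  have hinj : Function.Injective ((LinearMap.ker β).subtype.baseChange S) := by
    apply Function.LeftInverse.injective (g := ρ.baseChange S)
    intro x
    rw [← LinearMap.comp_apply, ← LinearMap.baseChange_comp, hρ, LinearMap.baseChange_id,
      LinearMap.id_apply]
  have hexS : Function.Exact ((LinearMap.ker α).subtype.baseChange S) (α'.baseChange S) := by
    simp only [LinearMap.baseChange_eq_ltensor]
    exact lTensor_exact S hex' hα'surj
  rw [← hα', LinearMap.baseChange_comp, LinearMap.ker_comp_of_ker_eq_bot _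
    (LinearMap.ker_eq_bot.mpr hinj), Submodule.baseChange]
  exact hexS.linearMap_ker_eq

theorem exact_baseChange {α : N →ₗ[R] M} {β : M →ₗ[R] W}
    (hex : Function.Exact α β) (hβ : Function.Surjective β) :
    Function.Exact (α.baseChange S) (β.baseChange S) := by
  simp only [LinearMap.baseChange_eq_ltensor]
  exact lTensor_exact S hex hβ

theorem baseChange_surjective {β : M →ₗ[R] W} (hβ : Function.Surjective β) :
    Function.Surjective (β.baseChange S) := by
  simp only [LinearMap.baseChange_eq_ltensor]
  exact LinearMap.lTensor_surjective S hβ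

end Groth.Agent.Lib.Helper97.ArtinCot
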