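import Groth.Agent.Lib.Helper97.ArtinCot.LocalCot
import Groth.Agent.Lib.Helper97.ArtinCot.DiffB
import Groth.Agent.Lib.Helper97.ArtinCot.SplitTensor
import Groth.Agent.Lib.Helper97.ArtinCot.Misc
import Groth.Agent.Lib.Helper97.CartierInduct

set_option autoImplicit false

/-! Main index computation for `B = A[T]/(T_i^p - f_i)`. -/

namespace Groth.Agent.Lib.Helper97.ArtinCot

open IsLocalRing TensorProduct KaehlerDifferential Algebra
open Groth.Agent.Lib.Helper97.Cartier

universe u

variable {A : Type u} [CommRing A] [IsLocalRing A]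
  (p : ℕ) [Fact p.Prime] [CharP A p] {r : ℕ} (f : Fin r → A)
variable (P₀ : Type u) [Field P₀] [Algebra P₀ A]

/-- The vectors `1 ⊗ d f_i` in `K ⊗ Ω[A⁄P₀]`. -/
noncomputable def vec (i : Fin r) : ResidueField A ⊗[A] Ω[A⁄P₀] := 1 ⊗ₜ D P₀ A (f i)

/-- `B ⊗ Ω[A⁄P₀] → Ω[B⁄P₀]` -/
noncomputable abbrev α : B p f ⊗[A] Ω[A⁄P₀] →ₗ[B p f] Ω[B p f⁄P₀] :=
  mapBaseChange P₀ A (B p f)

lemma ker_α : LinearMap.ker (α p f P₀) =
    Submodule.span (B p f) (Set.range fun i => (1 : B p f) ⊗ₜ[A] D P₀ A (f i)) := by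
  rw [← range_δ, (H1Cotangent.exact_δ_mapBaseChange P₀ A (B p f)).linearMap_ker_eq]

/-- `α` base changed to the residue field of `B`. -/
noncomputable abbrev α' : ResidueField (B p f) ⊗[B p f] (B p f ⊗[A] Ω[A⁄P₀]) →ₗ[ResidueField (B p f)]
    ResidueField (B p f) ⊗[B p f] Ω[B p f⁄P₀] :=
  (α p f P₀).baseChange (ResidueField (B p f))

lemma ker_α' : LinearMap.ker (α' p f P₀) =
    Submodule.span (ResidueField (B p f)) (Set.range fun i =>
      (1 : ResidueField (B p f)) ⊗ₜ[B p f] ((1 : B p f) ⊗ₜ[A] D P₀ A (f i))) := by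
  rw [ker_baseChange_of_projective (ResidueField (B p f))
    (KaehlerDifferential.exact_mapBaseChange_map P₀ A (B p f))
    (KaehlerDifferential.map_surjective P₀ A (B p f)), ker_α, Submodule.baseChange_span,
    ← Set.range_comp]
  rfl

/-- `K' ⊗[K] (K ⊗[A] M) ≃ K' ⊗[B] (B ⊗[A] M)` -/
noncomputable def e : ResidueField (B p f) ⊗[ResidueField A] (ResidueField A ⊗[A] Ω[A⁄P₀])
    ≃ₗ[ResidueField (B p f)] ResidueField (B p f) ⊗[B p f] (B p f ⊗[A] Ω[A⁄P₀]) :=
  (AlgebraTensorModule.cancelBaseChange A (ResidueField A) (ResidueField (B p f))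
    (ResidueField (B p f)) Ω[A⁄P₀]).trans
  (AlgebraTensorModule.cancelBaseChange A (B p f) (ResidueField (B p f))
    (ResidueField (B p f)) Ω[A⁄P₀]).symm

lemma e_tmul (c : ResidueField (B p f)) (d : ResidueField A) (ω : Ω[A⁄P₀]) :
    e p f P₀ (c ⊗ₜ (d ⊗ₜ ω)) = (d • c) ⊗ₜ ((1 : B p f) ⊗ₜ ω) := by
  simp [e]

lemma e_symm_one (ω : Ω[A⁄P₀]) :
    (e p f P₀).symm ((1 : ResidueField (B p f)) ⊗ₜ ((1 : B p f) ⊗ₜ ω)) =
      (1 : ResidueField (B p f)) ⊗ₜ ((1 : ResidueField A) ⊗ₜ ω) := by
  rw [LinearEquiv.symm_apply_eq, e_tmul, one_smul]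

/-- `K' ⊗[K] (K ⊗[A] Ω[A⁄P₀]) → K' ⊗[B] Ω[B⁄P₀]` -/
noncomputable def u : ResidueField (B p f) ⊗[ResidueField A] (ResidueField A ⊗[A] Ω[A⁄P₀])
    →ₗ[ResidueField (B p f)] ResidueField (B p f) ⊗[B p f] Ω[B p f⁄P₀] :=
  (α' p f P₀) ∘ₗ (e p f P₀).toLinearMap

lemma ker_u : LinearMap.ker (u p f P₀) =
    (Submodule.span (ResidueField A) (Set.range (vec f P₀))).baseChange (ResidueField (B p f)) := by
  rw [u, LinearMap.ker_comp, ker_α', Submodule.baseChange_span, ← Set.range_comp,
    Submodule.comap_equiv_eq_map_symm, Submodule.map_span, ← Set.range_comp]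
  congr 1
  ext x
  simp only [Set.mem_range, Function.comp_apply]
  constructor
  · rintro ⟨i, rfl⟩
    exact ⟨i, (e_symm_one p f P₀ _).symm⟩
  · rintro ⟨i, rfl⟩
    exact ⟨i, e_symm_one p f P₀ _⟩

lemma range_u : LinearMap.range (u p f P₀) = LinearMap.range (α' p f P₀) := by
  rw [u, LinearMap.range_comp_of_range_eq_top _ (LinearEquiv.range _)]

/-- the cokernel of `α'` -/
noncomputable def cokerα'Equiv :
    ((ResidueField (B p f) ⊗[B p f] Ω[B p f⁄P₀]) ⧸ LinearMap.range (α' p f P₀))
      ≃ₗ[ResidueField (B p f)] ResidueField (B p f) ⊗[B p f] Ω[B p f⁄A] :=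
  (exact_baseChange (ResidueField (B p f))
    (KaehlerDifferential.exact_mapBaseChange_map P₀ A (B p f))
    (KaehlerDifferential.map_surjective P₀ A (B p f))).linearEquivOfSurjective
  (baseChange_surjective (ResidueField (B p f)) (KaehlerDifferential.map_surjective P₀ A (B p f)))

lemma finrank_coker_u :
    Module.finrank (ResidueField (B p f))
      ((ResidueField (B p f) ⊗[B p f] Ω[B p f⁄P₀]) ⧸ LinearMap.range (u p f P₀)) = r := by
  rw [range_u, (cokerα'Equiv p f P₀).finrank_eq, Module.finrank_baseChange, finrank_kaehler]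

/-- `K ⊗ Ω[A⁄P₀] → Ω[K⁄P₀]` -/
noncomputable abbrev πA : ResidueField A ⊗[A] Ω[A⁄P₀] →ₗ[ResidueField A] Ω[ResidueField A⁄P₀] :=
  mapBaseChange P₀ A (ResidueField A)

/-- `K' ⊗ Ω[B⁄P₀] → Ω[K'⁄P₀]` -/
noncomputable abbrev πB : ResidueField (B p f) ⊗[B p f] Ω[B p f⁄P₀] →ₗ[ResidueField (B p f)]
    Ω[ResidueField (B p f)⁄P₀] :=
  mapBaseChange P₀ (B p f) (ResidueField (B p f))

/-- `K' ⊗ Ω[K⁄P₀] → Ω[K'⁄P₀]` -/
noncomputable abbrev w : ResidueField (B p f) ⊗[ResidueField A] Ω[ResidueField A⁄P₀]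
    →ₗ[ResidueField (B p f)] Ω[ResidueField (B p f)⁄P₀] :=
  mapBaseChange P₀ (ResidueField A) (ResidueField (B p f))

lemma square : (πB p f P₀) ∘ₗ (u p f P₀) =
    (w p f P₀) ∘ₗ (πA P₀ (A := A)).baseChange (ResidueField (B p f)) := by
  apply LinearMap.ext
  intro z
  induction z using TensorProduct.induction_on with
  | zero => simp
  | add a b ha hb => rw [map_add, map_add, ha, hb]
  | tmul c y =>
    induction y using TensorProduct.induction_on with
    | zero => simp
    | add a b ha hb => rw [tmul_add, map_add, map_add, ha, hb]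
    | tmul d ω =>
      simp only [u, LinearMap.coe_comp, LinearEquiv.coe_coe, Function.comp_apply, e_tmul,
        LinearMap.baseChange_tmul, mapBaseChange_tmul, map_smul]
      rw [map_map, map_map, smul_assoc, smul_comm]
      congr 2
      exact one_smul (B p f) (KaehlerDifferential.map P₀ P₀ A (ResidueField (B p f)) ω)

variable [IsNoetherianRing A] [Algebra.FormallySmooth P₀ (ResidueField A)]
  [Algebra.FormallySmooth P₀ (ResidueField (B p f))]

theorem main (hP : PthPowerHyp.{u} P₀) :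
    (Module.finrank (ResidueField A) (CotangentSpace A) =
      Module.finrank (ResidueField (B p f)) (CotangentSpace (B p f))) ↔
    LinearIndependent (ResidueField A) (vec f P₀) := by
  haveI : IsNoetherianRing (B p f) := inferInstance
  -- πB
  have hπB : Function.Surjective (πB p f P₀) := mapBaseChange_residueField_surjective P₀ (B p f)
  haveI f1 : Module.Finite (ResidueField (B p f)) (LinearMap.ker (πB p f P₀)) :=
    Module.Finite.equiv (cotEquivKer P₀ (B p f))
  haveI f2 : Module.Finite (ResidueField (B p f))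
      (Ω[ResidueField (B p f)⁄P₀] ⧸ LinearMap.range (πB p f P₀)) := by
    rw [LinearMap.range_eq_top.mpr hπB]; infer_instance
  have iπB : (πB p f P₀).index =
      Module.finrank (ResidueField (B p f)) (CotangentSpace (B p f)) := by
    rw [LinearMap.index_of_surjective hπB, finrank_ker_mapBaseChange]
  -- u
  haveI f3 : Module.Finite (ResidueField (B p f)) (LinearMap.ker (u p f P₀)) := by
    rw [ker_u]
    haveI : Module.Finite (ResidueField A)
        (Submodule.span (ResidueField A) (Set.range (vec f P₀))) :=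
      Module.Finite.span_of_finite _ (Set.finite_range _)
    exact Module.Finite.range _
  haveI f4 : Module.Finite (ResidueField (B p f))
      ((ResidueField (B p f) ⊗[B p f] Ω[B p f⁄P₀]) ⧸ LinearMap.range (u p f P₀)) := by
    rw [range_u]; exact Module.Finite.equiv (cokerα'Equiv p f P₀).symm
  have iu : (u p f P₀).index =
      (Module.finrank (ResidueField (B p f)) (LinearMap.ker (u p f P₀)) : ℤ) - r := by
    rw [LinearMap.index_eq_finrank_sub, finrank_coker_u]
  -- πA
  have hπA : Function.Surjective (πA P₀ (A := A)) := mapBaseChange_residueField_surjective P₀ A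
  haveI g1 : Module.Finite (ResidueField A) (LinearMap.ker (πA P₀ (A := A))) :=
    Module.Finite.equiv (cotEquivKer P₀ A)
  haveI g2 : Module.Finite (ResidueField A)
      (Ω[ResidueField A⁄P₀] ⧸ LinearMap.range (πA P₀ (A := A))) := by
    rw [LinearMap.range_eq_top.mpr hπA]; infer_instance
  haveI g3 := finite_ker_baseChange (L := ResidueField (B p f)) (πA P₀ (A := A))
  haveI g4 := finite_coker_baseChange (L := ResidueField (B p f)) (πA P₀ (A := A))
  have iπA : ((πA P₀ (A := A)).baseChange (ResidueField (B p f))).index =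
      Module.finrank (ResidueField A) (CotangentSpace A) := by
    rw [index_baseChange, LinearMap.index_of_surjective hπA, finrank_ker_mapBaseChange]
  -- w
  have hcd := cartierData_of_essFiniteType P₀ (ResidueField (B p f)) (ResidueField A)
  haveI h1 := hcd.good.ker
  haveI h2 := hcd.good.coker
  have iw : (w p f P₀).index = 0 := by
    have h := hcd.eq hP
    rw [cind, trdeg_eq_zero] at h
    simpa using h
  -- compose
  have c1 := LinearMap.index_comp (f := u p f P₀) (πB p f P₀)
  have c2 := LinearMap.index_comp (f := (πA P₀ (A := A)).baseChange (ResidueField (B p f)))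
    (w p f P₀)
  rw [square] at c1
  rw [linearIndependent_iff_finrank_baseChange_span (K' := ResidueField (B p f)), ← ker_u]
  lia

end Groth.Agent.Lib.Helper97.ArtinCot
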