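import Mathlib.RingTheory.MvPolynomial.Basic
import Mathlib.RingTheory.LocalRing.ResidueField.Basic
import Mathlib.FieldTheory.IsAlgClosed.AlgebraicClosure
import Mathlib.RingTheory.FiniteType
import Mathlib.RingTheory.IntegralClosure.IsIntegralClosure.Basic
import Mathlib.Algebra.CharP.Lemmas
import Mathlib.Algebra.CharP.Frobenius

set_option autoImplicit false

/-! The ring `B = A[T₁,…,T_r]/(T_i^p - f_i)` over a local ring `A` of characteristic `p`. -/

namespace Groth.Agent.Lib.Helper97.ArtinCot

open MvPolynomial IsLocalRing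

universe u

variable {A : Type u} [CommRing A] (p : ℕ) {r : ℕ} (f : Fin r → A)

/-- The ideal generated by the `T_i^p - f_i`. -/
noncomputable def J : Ideal (MvPolynomial (Fin r) A) :=
  Ideal.span (Set.range fun i => X i ^ p - C (f i))

/-- The quotient `A[T]/(T_i^p - f_i)`. -/
abbrev B : Type u := MvPolynomial (Fin r) A ⧸ J p f

lemma gen_mem_J (i : Fin r) : X i ^ p - C (f i) ∈ J p f :=
  Ideal.subset_span ⟨i, rfl⟩

variable [Fact p.Prime] [CharP A p]

lemma exists_pow_sub_C_mem (q : MvPolynomial (Fin r) A) : ∃ a : A, q ^ p - C a ∈ J p f := by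
  induction q using MvPolynomial.induction_on with
  | C a => exact ⟨a ^ p, by rw [map_pow, sub_self]; exact Ideal.zero_mem _⟩
  | add q₁ q₂ h₁ h₂ =>
    obtain ⟨a₁, h₁⟩ := h₁
    obtain ⟨a₂, h₂⟩ := h₂
    refine ⟨a₁ + a₂, ?_⟩
    rw [add_pow_char, map_add]
    have : q₁ ^ p + q₂ ^ p - (C a₁ + C a₂) = (q₁ ^ p - C a₁) + (q₂ ^ p - C a₂) := by ring
    rw [this]
    exact Ideal.add_mem _ h₁ h₂
  | mul_X q i h =>
    obtain ⟨a, h⟩ := h
    refine ⟨a * f i, ?_⟩
    have : (q * X i) ^ p - C (a * f i) =
        (q ^ p - C a) * X i ^ p + C a * (X i ^ p - C (f i)) := by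
      rw [map_mul]; ring
    rw [this]
    exact Ideal.add_mem _ (Ideal.mul_mem_right _ _ h) (Ideal.mul_mem_left _ _ (gen_mem_J p f i))

lemma exists_pow_eq_algebraMap (x : B p f) : ∃ a : A, x ^ p = algebraMap A (B p f) a := by
  obtain ⟨q, rfl⟩ := Ideal.Quotient.mk_surjective x
  obtain ⟨a, ha⟩ := exists_pow_sub_C_mem p f q
  refine ⟨a, ?_⟩
  rw [← map_pow]
  exact (Ideal.Quotient.eq.mpr ha)

lemma exists_one_sub_pow_eq_algebraMap (x : B p f) (a : A) (ha : x ^ p = algebraMap A (B p f) a) :
    (1 - x) ^ p = algebraMap A (B p f) (1 - a) := by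
  obtain ⟨q, rfl⟩ := Ideal.Quotient.mk_surjective x
  rw [map_sub, map_one, ← ha, ← map_one (Ideal.Quotient.mk (J p f)), ← map_sub, ← map_pow,
    sub_pow_char, one_pow, map_sub, map_pow, map_one]

section Local

variable [IsLocalRing A]

/-- chosen `p`-th roots of the residues of the `f i` in an algebraic closure -/
noncomputable def rootOf (i : Fin r) : AlgebraicClosure (ResidueField A) :=
  (IsAlgClosed.exists_pow_nat_eq
    (algebraMap (ResidueField A) (AlgebraicClosure (ResidueField A)) (residue A (f i)))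
    (Fact.out : p.Prime).pos).choose

lemma rootOf_pow (i : Fin r) : rootOf p f i ^ p =
    algebraMap (ResidueField A) (AlgebraicClosure (ResidueField A)) (residue A (f i)) :=
  (IsAlgClosed.exists_pow_nat_eq
    (algebraMap (ResidueField A) (AlgebraicClosure (ResidueField A)) (residue A (f i)))
    (Fact.out : p.Prime).pos).choose_spec

/-- The ring hom `A → \bar K`. -/
noncomputable def toAC : A →+* AlgebraicClosure (ResidueField A) :=
  (algebraMap (ResidueField A) (AlgebraicClosure (ResidueField A))).comp (residue A)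

/-- The ring hom `B → \bar K`. -/
noncomputable def φ : B p f →+* AlgebraicClosure (ResidueField A) :=
  Ideal.Quotient.lift (J p f) (eval₂Hom (toAC (A := A)) (rootOf p f)) (by
    intro q hq
    refine Submodule.span_induction ?_ ?_ ?_ ?_ hq
    · rintro _ ⟨i, rfl⟩
      simp [rootOf_pow, toAC]
    · simp
    · intro x y _ _ hx hy
      rw [map_add, hx, hy, add_zero]
    · intro a x _ hx
      rw [smul_eq_mul, map_mul, hx, mul_zero])

lemma φ_algebraMap (a : A) : φ p f (algebraMap A (B p f) a) = toAC a := by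
  change φ p f (Ideal.Quotient.mk _ (C a)) = _
  simp [φ]

instance : Nontrivial (B p f) := (φ p f).domain_nontrivial

instance : IsLocalRing (B p f) := by
  refine IsLocalRing.of_isUnit_or_isUnit_one_sub_self fun x => ?_
  obtain ⟨a, ha⟩ := exists_pow_eq_algebraMap p f x
  have hp0 : p ≠ 0 := (Fact.out : p.Prime).ne_zero
  rcases IsLocalRing.isUnit_or_isUnit_one_sub_self a with h | h
  · left
    rw [← isUnit_pow_iff hp0, ha]
    exact h.map _
  · right
    rw [← isUnit_pow_iff hp0, exists_one_sub_pow_eq_algebraMap p f x a ha]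
    exact h.map _

instance : IsLocalHom (algebraMap A (B p f)) := by
  constructor
  intro a ha
  by_contra hna
  have hm : a ∈ maximalIdeal A := hna
  have h0 : φ p f (algebraMap A (B p f) a) = 0 := by
    rw [φ_algebraMap, toAC, RingHom.comp_apply, (residue_eq_zero_iff a).mpr hm, map_zero]
  exact (ha.map (φ p f)).ne_zero h0

instance : Algebra.IsIntegral A (B p f) := by
  constructor
  intro x
  obtain ⟨a, ha⟩ := exists_pow_eq_algebraMap p f x
  refine ⟨Polynomial.X ^ p - Polynomial.C a,
    Polynomial.monic_X_pow_sub_C a (Fact.out : p.Prime).ne_zero, ?_⟩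
  simp [ha]

instance : Module.Finite A (B p f) := Algebra.IsIntegral.finite

end Local

end Groth.Agent.Lib.Helper97.ArtinCot
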